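import Mathlib
import Groth.Agent.NagataLib.Reduced

universe u

open Polynomial TensorProduct

namespace Groth.Agent.EtaModLib

variable {R : Type u} [CommRing R]

/-- If `(π)` is radical and `π` is regular, `π ^ m` divides every root of a monic polynomial scaled by `π ^ m`. -/
theorem pow_dvd_of_scaleRoots {π : R} (hπ : IsSMulRegular R π) (hrad : ∀ (y : R) (n : ℕ), π ∣ y ^ n → π ∣ y)
    (p : R[X]) (hp : p.Monic) :
    ∀ (m : ℕ) (b : R), (p.scaleRoots (π ^ m)).eval b = 0 → π ^ m ∣ b := by
  intro m
  induction m with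
  | zero => intro b _; simp
  | succ m ih =>
    intro b hb
    rcases subsingleton_or_nontrivial (R ⧸ Ideal.span {π}) with hs | hs
    · obtain ⟨c, hc⟩ := Ideal.mem_span_singleton.1
        (Ideal.Quotient.eq_zero_iff_mem.1 (Subsingleton.elim (Ideal.Quotient.mk (Ideal.span {π}) 1) 0))
      exact ⟨c ^ (m + 1) * b, by rw [← mul_assoc, ← mul_pow, ← hc, one_pow, one_mul]⟩
    have h : π ∣ b ^ p.natDegree := by
      rw [← Ideal.mem_span_singleton, ← Ideal.Quotient.eq_zero_iff_mem, map_pow]
      have h0 : Ideal.Quotient.mk (Ideal.span {π}) (π ^ (m + 1)) = 0 :=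
        Ideal.Quotient.eq_zero_iff_mem.2 (Ideal.mem_span_singleton.2 (dvd_pow_self π m.succ_ne_zero))
      have := congrArg (Ideal.Quotient.mk (Ideal.span {π})) hb
      rw [map_zero, ← eval₂_at_apply, ← eval_map,
        map_scaleRoots _ _ _ (by rw [hp.leadingCoeff, map_one]; exact one_ne_zero), h0, scaleRoots_zero,
        (hp.map _).leadingCoeff, one_smul, hp.natDegree_map, eval_pow, eval_X] at this
      exact this
    obtain ⟨b', rfl⟩ := hrad b _ h
    rw [pow_succ, scaleRoots_mul, scaleRoots_eval_mul, natDegree_scaleRoots] at hb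
    have h2 : (p.scaleRoots (π ^ m)).eval b' = 0 :=
      (hπ.pow p.natDegree) (by simpa [smul_eq_mul] using hb)
    obtain ⟨c, rfl⟩ := ih b' h2
    exact ⟨c, by ring⟩

variable {A B : Type u} [CommRing A] [IsDomain A] [IsNoetherianRing A] [IsIntegrallyClosed A]
  [CommRing B] [Algebra A B] [Module.Flat A B]

/-- The local statement at an associated prime of `A ⧸ (a)`. -/
theorem exists_smul_mem_of_associated (hfib : ∀ (P : Ideal A) [P.IsPrime], IsReduced (P.Fiber B))
    {a : A} (ha : a ≠ 0) (b : B) (p : B[X]) (hp : p.Monic)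
    (hb : (p.scaleRoots (algebraMap A B a)).eval b = 0)
    (P : Ideal A) [P.IsPrime] (hP : P ∈ associatedPrimes A (A ⧸ Ideal.span {a})) :
    ∃ t ∉ P, algebraMap A B t * b ∈ Ideal.span {algebraMap A B a} := by
  haveI := NagataLib.isDVR_of_associated ha P hP
  let AP := Localization.AtPrime P
  obtain ⟨π, hπ⟩ := IsDiscreteValuationRing.exists_irreducible AP
  have ha' : algebraMap A AP a ≠ 0 := fun h => ha (IsLocalization.injective AP
    P.primeCompl_le_nonZeroDivisors (h.trans (map_zero _).symm))
  obtain ⟨m, v, hv⟩ := IsDiscreteValuationRing.eq_unit_mul_pow_irreducible ha' hπ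
  let ι : AP →ₐ[A] AP ⊗[A] B := Algebra.TensorProduct.includeLeft
  let j : B →ₐ[A] AP ⊗[A] B := Algebra.TensorProduct.includeRight
  have hreg : IsSMulRegular (AP ⊗[A] B) (ι π) := by
    intro x y hxy
    have hinj : Function.Injective (LinearMap.rTensor B (LinearMap.mulLeft A π)) :=
      Module.Flat.rTensor_preserves_injective_linearMap _ (mul_right_injective₀ hπ.ne_zero)
    have hmul : ∀ z, LinearMap.rTensor B (LinearMap.mulLeft A π) z = ι π * z := by
      intro z
      induction z using TensorProduct.induction_on with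
      | zero => simp
      | tmul c d => simp [ι]
      | add c d hc hd => rw [map_add, mul_add, hc, hd]
    exact hinj (by rw [hmul, hmul]; exact hxy)
  have hrad : ∀ (y : AP ⊗[A] B) (n : ℕ), ι π ∣ y ^ n → ι π ∣ y := by
    intro y n hy
    haveI := hfib P
    let q : AP →ₐ[A] P.ResidueField := IsScalarTower.toAlgHom A AP P.ResidueField
    have hq : Function.Surjective q := IsLocalRing.residue_surjective
    let F : AP ⊗[A] B →ₐ[A] P.Fiber B := Algebra.TensorProduct.map q (AlgHom.id A B)
    have hker : RingHom.ker F = Ideal.span {ι π} := by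
      rw [show RingHom.ker F = _ from Algebra.TensorProduct.rTensor_ker q hq]
      have : RingHom.ker q = Ideal.span {π} := by
        rw [show RingHom.ker q = IsLocalRing.maximalIdeal AP from IsLocalRing.ker_residue, hπ.maximalIdeal_eq]
      rw [this, Ideal.map_span, Set.image_singleton]
    rw [← Ideal.mem_span_singleton, ← hker, RingHom.mem_ker, map_pow] at hy
    rw [← Ideal.mem_span_singleton, ← hker, RingHom.mem_ker]
    exact IsReduced.eq_zero _ ⟨n, hy⟩
  rcases subsingleton_or_nontrivial (AP ⊗[A] B) with hs | hs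
  · obtain ⟨c, hc⟩ := (IsLocalizedModule.eq_iff_exists P.primeCompl (TensorProduct.mk A AP B 1)
      (x₁ := b) (x₂ := 0)).1 (Subsingleton.elim _ _)
    refine ⟨c, c.2, ?_⟩
    have hc' : (c : A) • b = 0 := by simpa [Submonoid.smul_def] using hc
    rw [← Algebra.smul_def, hc']
    exact zero_mem _
  have key : ι π ^ m ∣ j b := by
    refine pow_dvd_of_scaleRoots hreg hrad ((p.map (j : B →+* AP ⊗[A] B)).scaleRoots (ι v))
      ((monic_scaleRoots_iff _).2 (hp.map _)) m _ ?_
    rw [← scaleRoots_mul]
    have e : ι v * ι π ^ m = j (algebraMap A B a) := by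
      rw [← map_pow, ← map_mul, ← hv, AlgHom.commutes, AlgHom.commutes]
    rw [e, ← RingHom.coe_coe j, ← map_scaleRoots _ _ _ (by rw [hp.leadingCoeff, map_one]; exact one_ne_zero),
      eval_map, eval₂_at_apply, hb, map_zero]
  obtain ⟨y, hy⟩ := key
  obtain ⟨⟨c, t⟩, hct⟩ := IsLocalizedModule.surj P.primeCompl (TensorProduct.mk A AP B 1)
    (ι (↑v⁻¹) * y)
  have e1 : j b = a • (ι (↑v⁻¹) * y) := by
    have hsm : ∀ z : AP ⊗[A] B, a • z = algebraMap A (AP ⊗[A] B) a * z := by
      intro z
      induction z using TensorProduct.induction_on with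
      | zero => simp
      | tmul c d => rw [Algebra.TensorProduct.algebraMap_apply, Algebra.TensorProduct.tmul_mul_tmul, one_mul,
          TensorProduct.smul_tmul', Algebra.smul_def]
      | add c d hc hd => rw [smul_add, mul_add, hc, hd]
    rw [hsm, ← AlgHom.commutes ι, ← mul_assoc, ← map_mul, hv, hy, mul_comm (v : AP), mul_assoc,
      Units.mul_inv, mul_one, map_pow]
  have e2 : TensorProduct.mk A AP B 1 ((t : A) • b) = TensorProduct.mk A AP B 1 (a • c) := by
    rw [map_smul, map_smul, show TensorProduct.mk A AP B 1 b = j b from rfl, e1, ← hct, Submonoid.smul_def,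
      smul_comm]
  obtain ⟨s, hs⟩ := (IsLocalizedModule.eq_iff_exists P.primeCompl (TensorProduct.mk A AP B 1)).1 e2
  refine ⟨s * t, mul_mem s.2 t.2, Ideal.mem_span_singleton.2 ⟨algebraMap A B s * c, ?_⟩⟩
  simp only [Submonoid.smul_def, Algebra.smul_def] at hs
  rw [map_mul, mul_assoc, hs]
  ring

/-- The quotient of a flat algebra with reduced fibres over a noetherian normal domain has no nontrivial
integral fraction with denominator in the base. -/
theorem mem_span_of_scaleRoots (hfib : ∀ (P : Ideal A) [P.IsPrime], IsReduced (P.Fiber B))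
    {a : A} (ha : a ≠ 0) (b : B) (p : B[X]) (hp : p.Monic)
    (hb : (p.scaleRoots (algebraMap A B a)).eval b = 0) :
    b ∈ Ideal.span {algebraMap A B a} := by
  let I : Ideal A := Ideal.span {a}
  have hI : I • (⊤ : Submodule A B) = (Ideal.span {algebraMap A B a}).restrictScalars A := by
    rw [Ideal.smul_top_eq_map, Ideal.map_span, Set.image_singleton]
  let E := quotTensorEquivQuotSMul B I
  let x : (A ⧸ I) ⊗[A] B := Ideal.Quotient.mk I 1 ⊗ₜ b
  have hx : ∀ t : A, t • x = 0 ↔ algebraMap A B t * b ∈ Ideal.span {algebraMap A B a} := by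
    intro t
    rw [← E.map_eq_zero_iff, map_smul, quotTensorEquivQuotSMul_mk_tmul, one_smul, ← Submodule.Quotient.mk_smul,
      Submodule.Quotient.mk_eq_zero, hI, Submodule.restrictScalars_mem, Algebra.smul_def]
  by_contra hcon
  have hx0 : x ≠ 0 := fun h => hcon (by simpa using (hx 1).1 (by rw [h, smul_zero]))
  obtain ⟨Q, hQ, hle⟩ := exists_le_isAssociatedPrime_of_isNoetherianRing A x hx0
  have hsub : (Q : Set A) ⊆ ⋃ P ∈ (associatedPrimes.finite A (A ⧸ I)).toFinset, ((id P : Ideal A) : Set A) := by
    intro s hs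
    have h2 : s ∈ ⋃ P ∈ associatedPrimes A ((A ⧸ I) ⊗[A] B), (P : Set A) := Set.mem_iUnion₂_of_mem hQ hs
    rw [biUnion_associatedPrimes_eq_zero_divisors] at h2
    have h3 : s ∈ ⋃ P ∈ associatedPrimes A (A ⧸ I), (P : Set A) := by
      rw [biUnion_associatedPrimes_eq_zero_divisors]
      by_contra hs'
      obtain ⟨z, hz0, hz⟩ := h2
      have hinj : Function.Injective (LinearMap.lsmul A (A ⧸ I) s) := by
        rw [injective_iff_map_eq_zero]
        intro w hw
        by_contra hw0
        exact hs' ⟨w, hw0, hw⟩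
      have := Module.Flat.rTensor_preserves_injective_linearMap (M := B) _ hinj
      refine hz0 (this ?_)
      rw [map_zero]
      have e : ∀ z, LinearMap.rTensor B (LinearMap.lsmul A (A ⧸ I) s) z = s • z := by
        intro z
        induction z using TensorProduct.induction_on with
        | zero => simp
        | tmul c d => simp [TensorProduct.smul_tmul']
        | add c d hc hd => rw [map_add, smul_add, hc, hd]
      rw [e, hz]
    simpa using h3
  obtain ⟨P, hP, hQP⟩ := (Ideal.subset_union_prime Q Q (fun P hP _ _ =>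
    ((Set.Finite.mem_toFinset _).1 hP).isPrime)).1 hsub
  rw [Set.Finite.mem_toFinset] at hP
  haveI : P.IsPrime := hP.isPrime
  obtain ⟨t, ht, htb⟩ := exists_smul_mem_of_associated hfib ha b p hp hb P hP
  exact ht (hQP (hle (by rw [Submodule.mem_colon_singleton, Submodule.mem_bot]; exact (hx t).2 htb)))

end Groth.Agent.EtaModLib
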