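import Mathlib

universe u

open TensorProduct

namespace Groth.Agent.EtaModLib

/-- A finitely presented algebra comes from a finitely generated subring. -/
theorem exists_int_model (A B : Type u) [CommRing A] [CommRing B] [Algebra A B] [Algebra.FinitePresentation A B] :
    ∃ (S : Subalgebra ℤ A) (_ : S.FG) (B₀ : Type u) (_ : CommRing B₀) (_ : Algebra S B₀)
      (_ : Algebra.FinitePresentation S B₀), Nonempty ((A ⊗[S] B₀) ≃ₐ[A] B) := by
  let Pr := Algebra.Presentation.ofFinitePresentation A B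
  haveI := Pr.finite_coeffs.fintype
  haveI : Pr.HasCoeffs Pr.core := ⟨fun x hx => ⟨⟨x, Pr.coeffs_subset_core hx⟩, rfl⟩⟩
  exact ⟨Pr.core, ⟨Pr.coeffs.toFinset, by simp [Algebra.Presentation.core]⟩, Pr.ModelOfHasCoeffs Pr.core,
    inferInstance, inferInstance, inferInstance, ⟨Pr.tensorModelOfHasCoeffsEquiv Pr.core⟩⟩

end Groth.Agent.EtaModLib
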