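import Mathlib
import Groth.Agent.S0566
import Groth.Agent.S0567
import Groth.Agent.S2656

universe u

open Polynomial

set_option backward.isDefEq.respectTransparency false
set_option linter.style.haveILetI false

namespace Groth.Agent.EtaModLib

theorem isNagata_ulift_int : CAlg.IsNagata (ULift.{u} ℤ) := by
  haveI : IsPrincipalIdealRing (ULift.{u} ℤ) :=
    IsPrincipalIdealRing.of_surjective (ULift.ringEquiv (R := ℤ)).symm.toRingHom (ULift.ringEquiv (R := ℤ)).symm.surjective
  haveI : IsDomain (ULift.{u} ℤ) := (ULift.ringEquiv (R := ℤ)).toMulEquiv.isDomain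
  haveI : CharZero (ULift.{u} ℤ) := charZero_of_injective_ringHom
    (f := (ULift.ringEquiv (R := ℤ)).symm.toRingHom) (ULift.ringEquiv (R := ℤ)).symm.injective
  exact S2656.result _

/-- A finitely generated subring of a normal domain lies in a finitely generated normal one. -/
theorem exists_normal_fg (A : Type u) [CommRing A] [IsDomain A] [IsIntegrallyClosed A] (S : Subalgebra ℤ A)
    (hS : S.FG) :
    ∃ T : Subalgebra ℤ A, S ≤ T ∧ T.FG ∧ IsNoetherianRing T ∧ IsIntegrallyClosed T := by
  haveI : Algebra.FiniteType ℤ S := (Subalgebra.fg_iff_finiteType _).1 hS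
  let ψ : ULift.{u} ℤ →+* S := (Int.castRingHom S).comp (ULift.ringEquiv (R := ℤ)).toRingHom
  have hψ : ψ.FiniteType := by
    have h1 : (Int.castRingHom S).FiniteType := by
      rw [← algebraMap_int_eq]; exact RingHom.finiteType_algebraMap.2 inferInstance
    exact h1.comp (RingHom.FiniteType.of_surjective _ (ULift.ringEquiv (R := ℤ)).surjective)
  letI : Algebra (ULift.{u} ℤ) S := ψ.toAlgebra
  haveI : Algebra.FiniteType (ULift.{u} ℤ) S := hψ
  have hN2 : CAlg.IsN2 S :=
    ((S0567.result S).1 (S0566.result _ isNagata_ulift_int S)).2 S inferInstance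
  let L := FractionRing S
  let K := FractionRing A
  have hinj : Function.Injective ((algebraMap A K).comp (algebraMap S A)) :=
    (IsFractionRing.injective A K).comp Subtype.val_injective
  obtain ⟨g, hg⟩ : ∃ g : L →+* K, ∀ x, g (algebraMap S L x) = algebraMap A K x :=
    ⟨IsFractionRing.lift hinj, fun x => IsFractionRing.lift_algebraMap hinj x⟩
  let N₁ := integralClosure S L
  haveI : Module.Finite S N₁ := hN2 L inferInstance
  have hgi : ∀ y : N₁, ∃ x : A, algebraMap A K x = g y := fun y => by
    obtain ⟨p, hp, hpy⟩ := y.2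
    refine IsIntegrallyClosed.isIntegral_iff.1 ⟨p.map (algebraMap S A), hp.map _, ?_⟩
    rw [eval₂_map, show (algebraMap A K).comp (algebraMap S A) = g.comp (algebraMap S L) from
      RingHom.ext fun z => (hg z).symm, ← hom_eval₂, hpy, map_zero]
  choose ν hν using hgi
  have hi := IsFractionRing.injective A K
  let νR : N₁ →+* A :=
    { toFun := ν
      map_one' := hi (by rw [hν]; simp)
      map_mul' := fun a b => hi (by rw [map_mul, hν, hν, hν]; simp)
      map_zero' := hi (by rw [hν]; simp)
      map_add' := fun a b => hi (by rw [map_add, hν, hν, hν]; simp) }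
  have hνinj : Function.Injective νR := fun a b h => Subtype.ext (g.injective (by
    rw [← hν, ← hν]; exact congrArg _ h))
  have hνS : ∀ s : S, νR (algebraMap S N₁ s) = s := fun s => hi ((hν _).trans (hg s))
  haveI : IsIntegrallyClosed N₁ := integralClosure.isIntegrallyClosedOfFiniteExtension L
  haveI : IsNoetherianRing S := Algebra.FiniteType.isNoetherianRing ℤ _
  haveI : IsNoetherianRing N₁ := IsNoetherianRing.of_finite S N₁
  haveI : Algebra.FiniteType ℤ N₁ := Algebra.FiniteType.trans (S := S) inferInstance inferInstance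
  let νZ : N₁ →ₐ[ℤ] A := { νR with commutes' := fun n => by simp }
  let e : N₁ ≃+* νZ.range := (AlgEquiv.ofInjective νZ hνinj).toRingEquiv
  refine ⟨νZ.range, fun s hs => ⟨algebraMap S N₁ ⟨s, hs⟩, hνS _⟩, ?_, isNoetherianRing_of_ringEquiv _ e,
    IsIntegrallyClosed.of_equiv e⟩
  exact (Subalgebra.fg_iff_finiteType _).2
    (Algebra.FiniteType.equiv inferInstance (AlgEquiv.ofInjective νZ hνinj))

end Groth.Agent.EtaModLib
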