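import Mathlib
import Groth.Agent.EtaModLib.Alg
import Groth.Agent.EtaModLib.NormFG
import Groth.Agent.EtaModLib.Model
import Groth.Agent.FPModelLib.ProperModel
import Groth.Agent.FPModelLib.Fibre

universe u

open CategoryTheory CategoryTheory.Limits AlgebraicGeometry Polynomial TensorProduct Opposite

set_option autoImplicit false
set_option backward.isDefEq.respectTransparency false
set_option backward.defeqAttrib.useBackward true
set_option linter.style.haveILetI false
set_option maxHeartbeats 1000000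

noncomputable section

namespace Groth.Agent.EtaModLib

/-- Geometrically reduced gives reduced fibre rings. -/
theorem isReduced_fiber {T C : Type u} [CommRing T] [CommRing C] [Algebra T C]
    [GeometricallyReduced (Spec.map (CommRingCat.ofHom (algebraMap T C)))] (P : Ideal T) [P.IsPrime] :
    _root_.IsReduced (P.Fiber C) := by
  have h := (isPullback_SpecMap_of_isPushout _ _ _ _
    (CommRingCat.isPushout_tensorProduct T P.ResidueField C)).flip
  have h1 := GeometricallyReduced.geometrically_isReduced (f := Spec.map (CommRingCat.ofHom (algebraMap T C)))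
    _ _ _ h
  exact (affine_isReduced_iff _).1 h1

variable (A : CommRingCat.{u})

/-- Flatness and geometric reducedness of a finitely presented algebra descend to all late stages. -/
theorem exists_good_stage (S : Subalgebra ℤ A) (hS : S.FG) (B₀ : Type u) [CommRing B₀] [Algebra S B₀]
    [Algebra.FinitePresentation S B₀] [Module.Flat A (A ⊗[S] B₀)]
    [GeometricallyReduced (Spec.map (CommRingCat.ofHom (algebraMap A (A ⊗[S] B₀))))] :
    ∃ S' : Subalgebra ℤ A, S ≤ S' ∧ S'.FG ∧ ∀ (T : Subalgebra ℤ A) (hST : S ≤ T), S' ≤ T → T.FG →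
      letI := (Subalgebra.inclusion hST).toRingHom.toAlgebra
      Module.Flat T (T ⊗[S] B₀) ∧
        GeometricallyReduced (Spec.map (CommRingCat.ofHom (algebraMap T (T ⊗[S] B₀)))) := by
  let D := FPModelLib.zSys A
  let c := FPModelLib.zCone A
  have hc := FPModelLib.isLimitZCone A
  let i : (FPModelLib.ZIdx A)ᵒᵖ := op ⟨S, hS⟩
  let g : Spec (CommRingCat.of B₀) ⟶ D.obj i := Spec.map (CommRingCat.ofHom (algebraMap S B₀))
  have hfp : (algebraMap S B₀).FinitePresentation := RingHom.finitePresentation_algebraMap.2 inferInstance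
  haveI : LocallyOfFinitePresentation g :=
    (HasRingHomProperty.Spec_iff (P := @LocallyOfFinitePresentation)).2 hfp
  haveI : QuasiCompact g := inferInstanceAs (QuasiCompact (Spec.map _))
  let f : Spec (CommRingCat.of (A ⊗[S] B₀)) ⟶ c.pt := Spec.map (CommRingCat.ofHom (algebraMap A (A ⊗[S] B₀)))
  let q : Spec (CommRingCat.of (A ⊗[S] B₀)) ⟶ Spec (CommRingCat.of B₀) :=
    Spec.map (CommRingCat.ofHom (Algebra.TensorProduct.includeRight : B₀ →ₐ[S] A ⊗[S] B₀).toRingHom)
  have hsq : IsPullback q f g (c.π.app i) :=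
    (isPullback_SpecMap_of_isPushout _ _ _ _ (CommRingCat.isPushout_tensorProduct S A B₀)).flip
  haveI : Flat f := (HasRingHomProperty.Spec_iff (P := @Flat)).2 (RingHom.flat_algebraMap_iff.2 ‹_›)
  haveI : GeometricallyReduced f := ‹GeometricallyReduced (Spec.map (CommRingCat.ofHom (algebraMap A (A ⊗[S] B₀))))›
  have hY : IsPullback (c.π.app i) (𝟙 c.pt) (𝟙 (D.obj i)) (c.π.app i) := IsPullback.id_vert _
  obtain ⟨k, hk⟩ := FlatStage.exists_flat D c i g (𝟙 (D.obj i)) hY hsq hc
  have hk' : Flat (pullback.snd g (D.map k.hom)) := FPModelLib.prop_snd_of_baseChangeMap D g k hk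
  obtain ⟨j, φ, hj⟩ := FPModelLib.exists_geometricallyReduced D c hc g hsq
  refine ⟨k.left.unop.1 ⊔ j.unop.1, ?_, k.left.unop.2.sup j.unop.2, fun T hST hT hTfg => ?_⟩
  · exact le_trans (leOfHom k.hom.unop) le_sup_left
  letI : Algebra S T := (Subalgebra.inclusion hST).toRingHom.toAlgebra
  let t : (FPModelLib.ZIdx A)ᵒᵖ := op ⟨T, hTfg⟩
  let a : t ⟶ k.left := (homOfLE (show k.left.unop.1 ≤ T from le_trans le_sup_left hT)).op
  let b : t ⟶ j := (homOfLE (show j.unop.1 ≤ T from le_trans le_sup_right hT)).op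
  let χ : t ⟶ i := (homOfLE (show S ≤ T from hST)).op
  have sqT : IsPullback
      (Spec.map (CommRingCat.ofHom (Algebra.TensorProduct.includeRight : B₀ →ₐ[S] T ⊗[S] B₀).toRingHom))
      (Spec.map (CommRingCat.ofHom (algebraMap T (T ⊗[S] B₀)))) g (D.map χ) :=
    (isPullback_SpecMap_of_isPushout _ _ _ _ (CommRingCat.isPushout_tensorProduct S T B₀)).flip
  have key : ∀ (P : MorphismProperty Scheme.{u}) [P.IsStableUnderBaseChange] [P.RespectsIso] (j : (FPModelLib.ZIdx A)ᵒᵖ)
      (φ : j ⟶ i) (_ : t ⟶ j), P (pullback.snd g (D.map φ)) →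
      P (Spec.map (CommRingCat.ofHom (algebraMap T (T ⊗[S] B₀)))) := by
    intro P _ _ j φ b hP
    have h2 : IsPullback (pullback.fst (pullback.snd g (D.map φ)) (D.map b) ≫ pullback.fst g (D.map φ))
        (pullback.snd (pullback.snd g (D.map φ)) (D.map b)) g (D.map χ) := by
      have := (IsPullback.of_hasPullback (pullback.snd g (D.map φ)) (D.map b)).paste_horiz
        (IsPullback.of_hasPullback g (D.map φ))
      rwa [← D.map_comp, Subsingleton.elim (b ≫ φ) χ] at this
    rw [← sqT.isoIsPullback_hom_snd _ _ h2, P.cancel_left_of_respectsIso]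
    exact MorphismProperty.pullback_snd _ _ hP
  exact ⟨RingHom.flat_algebraMap_iff.1 ((HasRingHomProperty.Spec_iff (P := @Flat)).1
    (key @Flat k.left k.hom a hk')), key @GeometricallyReduced j φ b hj⟩

/-- A flat finitely presented algebra with geometrically reduced fibres over a normal domain has no nontrivial
integral fraction with denominator in the base. -/
theorem mem_span_of_scaleRoots_fp [IsDomain A] [IsIntegrallyClosed A] (B : Type u) [CommRing B] [Algebra A B]
    [Module.Flat A B] [Algebra.FinitePresentation A B]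
    [GeometricallyReduced (Spec.map (CommRingCat.ofHom (algebraMap A B)))]
    (a : A) (ha : a ≠ 0) (b : B) (p : B[X]) (hp : p.Monic)
    (hb : (p.scaleRoots (algebraMap A B a)).eval b = 0) :
    b ∈ Ideal.span {algebraMap A B a} := by
  classical
  obtain ⟨S₀, hS₀, B₀, _, _, _, ⟨e⟩⟩ := exists_int_model A B
  haveI : Module.Flat A (A ⊗[S₀] B₀) := Module.Flat.of_linearEquiv e.toLinearEquiv
  haveI : GeometricallyReduced (Spec.map (CommRingCat.ofHom (algebraMap A (A ⊗[S₀] B₀)))) := by
    have he : CommRingCat.ofHom (algebraMap A (A ⊗[S₀] B₀)) =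
        CommRingCat.ofHom (algebraMap A B) ≫ e.symm.toRingEquiv.toCommRingCatIso.hom := by
      ext x; exact (e.symm.commutes x).symm
    rw [he, Spec.map_comp, MorphismProperty.cancel_left_of_respectsIso @GeometricallyReduced]
    infer_instance
  obtain ⟨S', hSS', hS'fg, hgood⟩ := exists_good_stage A S₀ hS₀ B₀
  -- the finitely many coefficients
  have hfin : ∀ z : A ⊗[S₀] B₀, ∃ F : Finset A, ∀ (T : Subalgebra ℤ A) (hT : S₀ ≤ T), ↑F ⊆ (T : Set A) →
      letI := (Subalgebra.inclusion hT).toRingHom.toAlgebra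
      haveI : IsScalarTower S₀ T A := IsScalarTower.of_algebraMap_eq' rfl
      z ∈ Set.range (Algebra.TensorProduct.map (IsScalarTower.toAlgHom S₀ T A) (AlgHom.id S₀ B₀)) := by
    intro z
    induction z using TensorProduct.induction_on with
    | zero => exact ⟨∅, fun T hT _ => ⟨0, map_zero _⟩⟩
    | tmul c d =>
      refine ⟨{c}, fun T hT hF => ?_⟩
      letI := (Subalgebra.inclusion hT).toRingHom.toAlgebra
      refine ⟨(⟨c, hF (by simp)⟩ : T) ⊗ₜ d, ?_⟩
      rw [Algebra.TensorProduct.map_tmul]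
      rfl
    | add c d hc hd =>
      obtain ⟨F, hF⟩ := hc
      obtain ⟨G, hG⟩ := hd
      refine ⟨F ∪ G, fun T hT hFG => ?_⟩
      obtain ⟨x, hx⟩ := hF T hT (fun y hy => hFG (by simp [Finset.mem_coe.1 hy]))
      obtain ⟨y, hy⟩ := hG T hT (fun y hy => hFG (by simp [Finset.mem_coe.1 hy]))
      exact ⟨x + y, by rw [map_add, hx, hy]⟩
  choose F hF using hfin
  let G : Finset A := insert a (F (e.symm b) ∪ p.support.biUnion (fun n => F (e.symm (p.coeff n))))
  obtain ⟨T, hle, hTfg, hTn, hTic⟩ := exists_normal_fg A (S' ⊔ Algebra.adjoin ℤ (G : Set A))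
    (hS'fg.sup ⟨G, rfl⟩)
  have hST : S₀ ≤ T := le_trans hSS' (le_trans le_sup_left hle)
  have hGT : (G : Set A) ⊆ T := fun x hx => (le_trans le_sup_right hle) (Algebra.subset_adjoin hx)
  obtain ⟨hflat, hgr⟩ := hgood T hST (le_trans le_sup_left hle) hTfg
  letI : Algebra S₀ T := (Subalgebra.inclusion hST).toRingHom.toAlgebra
  haveI : IsScalarTower S₀ T A := IsScalarTower.of_algebraMap_eq' rfl
  haveI := hflat
  haveI := hgr
  let ι : T ⊗[S₀] B₀ →ₐ[S₀] A ⊗[S₀] B₀ :=
    Algebra.TensorProduct.map (IsScalarTower.toAlgHom S₀ T A) (AlgHom.id S₀ B₀)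
  have hι : Function.Injective ι := by
    let κ : A ⊗[T] (T ⊗[S₀] B₀) ≃ₐ[A] A ⊗[S₀] B₀ := Algebra.TensorProduct.cancelBaseChange S₀ T A A B₀
    have h1 : ∀ x, ι x = κ (1 ⊗ₜ x) := by
      intro x
      induction x using TensorProduct.induction_on with
      | zero => simp
      | tmul c d => simp [ι, κ, Algebra.algebraMap_eq_smul_one]
      | add c d hc hd => rw [map_add, hc, hd, tmul_add, map_add]
    intro x y hxy
    rw [h1, h1] at hxy
    exact Algebra.TensorProduct.includeRight_injective (R := T) (A := A) Subtype.val_injective (κ.injective hxy)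
  have hmem : ∀ z, ↑(F z) ⊆ (T : Set A) → z ∈ Set.range ι := fun z hz => hF z T hST hz
  obtain ⟨b₁, hb₁⟩ := hmem (e.symm b) (fun x hx => hGT (by simp [G, Finset.mem_coe.1 hx]))
  let a₁ : T := ⟨a, hGT (by simp [G])⟩
  let ε : T ⊗[S₀] B₀ →+* B := e.toRingEquiv.toRingHom.comp ι.toRingHom
  have hε : Function.Injective ε := e.injective.comp hι
  have hεb : ε b₁ = b := by
    show e (ι b₁) = b
    rw [hb₁, e.apply_symm_apply]
  have hεa : ε (algebraMap T _ a₁) = algebraMap A B a := by
    show e (ι (a₁ ⊗ₜ 1)) = _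
    rw [show ι (a₁ ⊗ₜ 1) = algebraMap A (A ⊗[S₀] B₀) a from rfl, e.commutes]
  have hlift : p ∈ Polynomial.lifts ε := by
    rw [Polynomial.lifts_iff_coeff_lifts]
    intro n
    by_cases hn : n ∈ p.support
    · obtain ⟨x, hx⟩ := hmem (e.symm (p.coeff n)) (fun x hx => hGT (by
        simp only [G, Finset.coe_insert, Finset.coe_union, Set.mem_insert_iff, Set.mem_union, Finset.mem_coe,
          Finset.mem_biUnion]
        exact Or.inr (Or.inr ⟨n, hn, Finset.mem_coe.1 hx⟩)))
      exact ⟨x, by show e (ι x) = _; rw [hx, e.apply_symm_apply]⟩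
    · exact ⟨0, by rw [map_zero, Polynomial.notMem_support_iff.1 hn]⟩
  rcases subsingleton_or_nontrivial B with hs | hs
  · exact Ideal.mem_span_singleton.2 ⟨0, Subsingleton.elim _ _⟩
  obtain ⟨p₁, hp₁, -, hp₁m⟩ := Polynomial.lifts_and_natDegree_eq_and_monic hlift hp
  haveI : IsNoetherianRing T := hTn
  haveI : IsIntegrallyClosed T := hTic
  have h2 : b₁ ∈ Ideal.span {algebraMap T (T ⊗[S₀] B₀) a₁} := by
    refine mem_span_of_scaleRoots (fun P _ => isReduced_fiber P) (fun h => ha (congrArg Subtype.val h)) b₁ p₁ hp₁m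
      (hε ?_)
    rw [map_zero, ← Polynomial.eval₂_at_apply, ← Polynomial.eval_map, map_scaleRoots _ _ _ (by
      rw [hp₁m.leadingCoeff, map_one]; exact one_ne_zero), hp₁, hεa, hεb]
    exact hb
  obtain ⟨y, hy⟩ := Ideal.mem_span_singleton.1 h2
  exact Ideal.mem_span_singleton.2 ⟨ε y, by rw [← hεb, hy, map_mul, hεa]⟩

end Groth.Agent.EtaModLib
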