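import Mathlib
import Groth.Agent.EtaModLib.Descent
import Groth.Agent.NormalSch.Basic

set_option autoImplicit false
set_option backward.isDefEq.respectTransparency false
set_option backward.defeqAttrib.useBackward true
set_option linter.style.haveILetI false
set_option linter.unusedSectionVars false
set_option maxHeartbeats 1000000

universe u

open CategoryTheory CategoryTheory.Limits AlgebraicGeometry TopologicalSpace

namespace Groth.Agent.EtaModLib

/-- The chart of a geometrically reduced morphism is geometrically reduced. -/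
theorem geometricallyReduced_chart {X S : Scheme.{u}} (φ : X ⟶ S)
    (hred : ∀ (K : Type u) [Field K] (k : Spec (CommRingCat.of K) ⟶ S), IsReduced (pullback φ k))
    {V : S.Opens} (hV : IsAffineOpen V) {W : X.Opens} (hW : IsAffineOpen W) (e : W ≤ φ ⁻¹ᵁ V) :
    GeometricallyReduced (Spec.map (φ.appLE V W e)) := by
  refine ⟨fun L _ y Z a b H => ?_⟩
  have hw := hV.SpecMap_appLE_fromSpec φ hW e
  have houter : IsPullback a b (hW.fromSpec ≫ φ) (y ≫ hV.fromSpec) := by
    rw [← hw]
    refine ⟨⟨by rw [reassoc_of% H.w]⟩, ⟨PullbackCone.IsLimit.mk _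
      (fun s => H.lift s.fst s.snd ((cancel_mono hV.fromSpec).1 (by simpa using s.condition)))
      (fun s => H.lift_fst _ _ _) (fun s => H.lift_snd _ _ _)
      (fun s m h1 h2 => H.hom_ext (by rw [H.lift_fst]; exact h1) (by rw [H.lift_snd]; exact h2))⟩⟩
  let l : Z ⟶ pullback φ (y ≫ hV.fromSpec) :=
    pullback.lift (a ≫ hW.fromSpec) b (by rw [Category.assoc]; exact houter.w)
  have hl : IsPullback a l hW.fromSpec (pullback.fst φ (y ≫ hV.fromSpec)) :=
    (IsPullback.of_right (h₁₁ := l) (h₁₂ := pullback.snd φ (y ≫ hV.fromSpec)) (v₁₁ := a)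
      (v₁₂ := pullback.fst φ (y ≫ hV.fromSpec)) (v₁₃ := y ≫ hV.fromSpec) (h₂₁ := hW.fromSpec) (h₂₂ := φ)
      (by rw [pullback.lift_snd]; exact houter.flip) (pullback.lift_fst _ _ _)
      (IsPullback.of_hasPullback φ (y ≫ hV.fromSpec)).flip).flip
  haveI : IsOpenImmersion l := MorphismProperty.of_isPullback hl inferInstance
  haveI := hred L (y ≫ hV.fromSpec)
  exact isReduced_of_isOpenImmersion l

/-- A finite morphism through which the generic fibre factors schematically dominantly is an isomorphism. -/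
theorem isIso_of_generic {S X X' : Scheme.{u}} [IsIntegral S] [CompactSpace S] [QuasiSeparatedSpace S]
    (hS : Pi1.IsNormalScheme S) (φ : X ⟶ S) [Flat φ] [LocallyOfFinitePresentation φ]
    (hred : ∀ (K : Type u) [Field K] (k : Spec (CommRingCat.of K) ⟶ S), IsReduced (pullback φ k))
    (f : X' ⟶ X) [IsFinite f] (g : pullback φ (S.fromSpecStalk (genericPoint S)) ⟶ X')
    [IsSchemeTheoreticallyDominant g] [QuasiCompact g]
    (hgf : g ≫ f = pullback.fst φ (S.fromSpecStalk (genericPoint S))) : IsIso f := by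
  let v := S.fromSpecStalk (genericPoint S)
  haveI : IsDominant v := ⟨by
    show Dense (Set.range v)
    refine Dense.mono ?_ (dense_iff_closure_eq.2 (genericPoint_spec S))
    rintro x rfl
    exact ⟨IsLocalRing.closedPoint _, Scheme.fromSpecStalk_closedPoint⟩⟩
  haveI : IsSchemeTheoreticallyDominant v := IsSchemeTheoreticallyDominant.of_isDominant v
  haveI : QuasiCompact v := quasiCompact_of_compactSpace v
  let h : pullback φ v ⟶ X := pullback.fst φ v
  haveI : IsSchemeTheoreticallyDominant h := inferInstanceAs (IsSchemeTheoreticallyDominant (pullback.fst φ v))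
  haveI : IsSchemeTheoreticallyDominant f := by
    refine ⟨le_antisymm ?_ bot_le⟩
    calc f.ker ≤ (g ≫ f).ker := Scheme.Hom.le_ker_comp _ _
      _ = ⊥ := by
          rw [hgf]
          exact h.ker_eq_bot
  -- charts
  have hex : ∀ x : X, ∃ (V : S.Opens) (W : X.Opens), IsAffineOpen V ∧ IsAffineOpen W ∧ W ≤ φ ⁻¹ᵁ V ∧ x ∈ W := by
    intro x
    obtain ⟨V, hV, hxV, -⟩ := exists_isAffineOpen_mem_and_subset (TopologicalSpace.Opens.mem_top (φ x))
    obtain ⟨W, hW, hxW, hWV⟩ := exists_isAffineOpen_mem_and_subset (show x ∈ φ ⁻¹ᵁ V from hxV)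
    exact ⟨V, W, hV, hW, hWV, hxW⟩
  choose V W hV hW e hx using hex
  refine (IsZariskiLocalAtTarget.iff_of_iSup_eq_top (P := MorphismProperty.isomorphisms Scheme.{u}) W
    (top_unique fun x _ => TopologicalSpace.Opens.mem_iSup.2 ⟨x, hx x⟩)).2 fun x => ?_
  show IsIso (f ∣_ W x)
  rw [isIso_morphismRestrict_iff_isIso_app f (hW x), ConcreteCategory.isIso_iff_bijective]
  refine ⟨f.app_injective _, fun s => ?_⟩
  haveI : Nonempty (V x) := ⟨⟨φ x, e x (hx x)⟩⟩
  let α := φ.appLE (V x) (W x) (e x)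
  letI : Algebra Γ(S, V x) Γ(X, W x) := α.hom.toAlgebra
  haveI : Module.Flat Γ(S, V x) Γ(X, W x) := φ.flat_appLE (hV x) (hW x) (e x)
  haveI : Algebra.FinitePresentation Γ(S, V x) Γ(X, W x) :=
    LocallyOfFinitePresentation.finitePresentation_appLE (f := φ) (hV x) (hW x) (e x)
  haveI : GeometricallyReduced (Spec.map (CommRingCat.ofHom (algebraMap Γ(S, V x) Γ(X, W x)))) :=
    geometricallyReduced_chart φ hred (hV x) (hW x) (e x)
  haveI : IsIntegrallyClosed Γ(S, V x) := NormalSch.isIntegrallyClosed_section hS (V x)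
  have hηV : genericPoint S ∈ V x :=
    ((genericPoint_spec S).mem_open_set_iff (V x).isOpen).mpr (by simpa using (inferInstance : Nonempty (V x)))
  have hvV : ⊤ ≤ v ⁻¹ᵁ V x := fun p _ => by
    have hp : v p ⤳ genericPoint S := by
      have : v p ∈ Set.range v := ⟨p, rfl⟩
      rw [Scheme.range_fromSpecStalk] at this
      exact this
    exact hp.mem_open (V x).isOpen hηV
  have hUY : h ⁻¹ᵁ W x = pullback.fst φ v ⁻¹ᵁ W x ⊓ pullback.snd φ v ⁻¹ᵁ ⊤ := by simp [h]
  have hpo := (isIso_pushoutSection_iff (IsPullback.of_hasPullback φ v) hvV (e x) hUY).1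
    (isIso_pushoutSection_of_isAffineOpen (IsPullback.of_hasPullback φ v) hvV (e x) hUY (hV x)
      (isAffineOpen_top _) (hW x))
  let vA := v.appLE (V x) ⊤ hvV
  let σ := (pullback.snd φ v).appLE ⊤ (h ⁻¹ᵁ W x) le_top
  let hB := h.appLE (W x) (h ⁻¹ᵁ W x) le_rfl
  have hsq : ∀ a, hB (α a) = σ (vA a) := fun a => congrArg (fun q => q.hom a) hpo.w
  have hva : vA = S.presheaf.germ (V x) _ hηV ≫ (Scheme.ΓSpecIso (S.presheaf.stalk (genericPoint S))).inv := by
    show v.appLE (V x) ⊤ hvV = _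
    rw [Scheme.Hom.appLE, Scheme.fromSpecStalk_app hηV]
    simp only [Category.assoc, ← Functor.map_comp]
    congr 1
  haveI : IsFractionRing Γ(S, V x) S.functionField := functionField_isFractionRing_of_isAffineOpen S (V x) (hV x)
  have hunit : ∀ a : Γ(S, V x), a ≠ 0 → IsUnit (hB (α a)) := by
    intro a ha
    rw [hsq, hva]
    refine IsUnit.map σ.hom (IsUnit.map (Scheme.ΓSpecIso _).inv.hom ?_)
    exact isUnit_iff_ne_zero.2 ((map_ne_zero_iff _ (S.germToFunctionField_injective (V x))).2 ha)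
  -- all sections on the generic fibre have a denominator from the base
  let R' : Subring Γ(pullback φ v, h ⁻¹ᵁ W x) :=
    { carrier := {z | ∃ a : Γ(S, V x), a ≠ 0 ∧ ∃ b, hB (α a) * z = hB b}
      mul_mem' := by
        rintro z w ⟨a, ha, b, hb⟩ ⟨c, hc, d, hd⟩
        exact ⟨a * c, mul_ne_zero ha hc, b * d, by rw [map_mul, map_mul, map_mul, mul_mul_mul_comm, hb, hd]⟩
      one_mem' := ⟨1, one_ne_zero, 1, by simp⟩
      add_mem' := by
        rintro z w ⟨a, ha, b, hb⟩ ⟨c, hc, d, hd⟩
        refine ⟨a * c, mul_ne_zero ha hc, α c * b + α a * d, ?_⟩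
        simp only [map_mul, map_add, ← hb, ← hd]
        ring
      zero_mem' := ⟨1, one_ne_zero, 0, by simp⟩
      neg_mem' := by
        rintro z ⟨a, ha, b, hb⟩
        exact ⟨a, ha, -b, by rw [map_neg, mul_neg, hb]⟩ }
  have hR₁ : ∀ b, hB b ∈ R' := fun b => ⟨1, one_ne_zero, b, by simp⟩
  have hR₂ : ∀ t, σ t ∈ R' := by
    intro t
    obtain ⟨⟨b, a⟩, hab⟩ := IsLocalization.surj (M := nonZeroDivisors Γ(S, V x))
      (S := S.functionField) ((Scheme.ΓSpecIso (S.presheaf.stalk (genericPoint S))).hom t)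
    refine ⟨a, nonZeroDivisors.ne_zero a.2, α b, ?_⟩
    rw [hsq, hsq, ← map_mul]
    congr 1
    rw [hva]
    have := congrArg (Scheme.ΓSpecIso (S.presheaf.stalk (genericPoint S))).inv hab
    rw [map_mul, Iso.hom_inv_id_apply] at this
    rw [mul_comm]
    exact this
  have hR : ∀ z, z ∈ R' := by
    intro z
    let k₁ : Γ(X, W x) ⟶ CommRingCat.of R' := CommRingCat.ofHom (hB.hom.codRestrict R' hR₁)
    let k₂ : Γ(Spec (S.presheaf.stalk (genericPoint S)), ⊤) ⟶ CommRingCat.of R' :=
      CommRingCat.ofHom (σ.hom.codRestrict R' hR₂)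
    let r := hpo.desc k₁ k₂ (by
      refine CommRingCat.hom_ext (RingHom.ext fun a => Subtype.ext ?_)
      exact hsq a)
    have hr : r ≫ CommRingCat.ofHom R'.subtype = 𝟙 _ := by
      apply hpo.hom_ext
      · rw [hpo.inl_desc_assoc, Category.comp_id]; rfl
      · rw [hpo.inr_desc_assoc, Category.comp_id]; rfl
    have h2 : ((r z : R') : Γ(pullback φ v, h ⁻¹ᵁ W x)) = z := congrArg (fun q => q.hom z) hr
    rw [← h2]
    exact (r z).2
  -- the section is integral with a denominator
  have hgW : h ⁻¹ᵁ W x = g ⁻¹ᵁ (f ⁻¹ᵁ W x) := by rw [← Scheme.Hom.comp_preimage, hgf]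
  let gB := g.appLE (f ⁻¹ᵁ W x) (h ⁻¹ᵁ W x) hgW.le
  have hgB : ∀ b, gB (f.app (W x) b) = hB b := by
    intro b
    have : f.appLE (W x) (f ⁻¹ᵁ W x) le_rfl ≫ gB = hB := by
      rw [Scheme.Hom.appLE_comp_appLE]
      simp only [hgf, hB]
      rfl
    rw [← this, Scheme.Hom.app_eq_appLE]
    rfl
  have hgBinj : Function.Injective gB := by
    haveI : IsIso ((pullback φ v).presheaf.map (homOfLE hgW.le).op) := by
      rw [show homOfLE hgW.le = eqToHom hgW from Subsingleton.elim _ _]
      infer_instance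
    show Function.Injective (g.app (f ⁻¹ᵁ W x) ≫ (pullback φ v).presheaf.map (homOfLE hgW.le).op)
    exact (ConcreteCategory.bijective_of_isIso ((pullback φ v).presheaf.map (homOfLE hgW.le).op)).1.comp
      (g.app_injective _)
  obtain ⟨a, ha, b, hab⟩ := hR (gB s)
  have h1 : f.app (W x) (α a) * s = f.app (W x) b := hgBinj (by rw [map_mul, hgB, hgB]; exact hab)
  obtain ⟨p, hp, hps⟩ := (f.finite_app (W x) (hW x)).to_isIntegral s
  have h2 : (p.scaleRoots (α a)).eval b = 0 := by
    apply f.app_injective (W x)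
    rw [map_zero, ← Polynomial.eval₂_at_apply, ← h1, Polynomial.scaleRoots_eval₂_mul, hps, mul_zero]
  obtain ⟨c, hc⟩ := Ideal.mem_span_singleton.1
    (EtaModLib.mem_span_of_scaleRoots_fp Γ(S, V x) Γ(X, W x) a ha b p hp h2)
  refine ⟨c, hgBinj ?_⟩
  rw [hgB]
  refine (hunit a ha).mul_left_cancel ?_
  rw [hab, hc, map_mul]
  rfl

end Groth.Agent.EtaModLib
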